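import Mathlib
import Cfsg.Agent.Lib.Law.Groups
import Cfsg.Agent.Lib.Classical.SLBasic
import Cfsg.Agent.Lib.Comp.Component
import Cfsg.Agent.Lib.Core.Cores

/-!
The block subgroup `SL(ι) ≤ G ≤ GL(ι ⊕ 1)` and the involution `diag(-1, …, -1, 1)`;
an abstract criterion for standard subgroups.
-/

set_option autoImplicit false

namespace CfsgLib.StdEx

open Matrix Subgroup Cfsg CfsgLib.Law CfsgLib.Comp

theorem normalizer_le_normalizer_centralizer {G : Type*} [Group G] (L : Subgroup G) :
    normalizer (L : Set G) ≤ normalizer (centralizer (L : Set G) : Set G) := by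
  intro g hg
  rw [mem_normalizer_iff] at hg ⊢
  intro h
  simp only [SetLike.mem_coe, mem_centralizer_iff] at hg ⊢
  constructor
  · intro hh l hl
    have := hh (g⁻¹ * l * g) ((hg _).2 (by simpa [mul_assoc] using hl))
    calc l * (g * h * g⁻¹) = g * (g⁻¹ * l * g * h) * g⁻¹ := by group
      _ = g * (h * (g⁻¹ * l * g)) * g⁻¹ := by rw [this]
      _ = g * h * g⁻¹ * l := by group
  · intro hh l hl
    have := hh (g * l * g⁻¹) ((hg _).1 hl)
    calc l * h = g⁻¹ * (g * l * g⁻¹ * (g * h * g⁻¹)) * g := by group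
      _ = g⁻¹ * (g * h * g⁻¹ * (g * l * g⁻¹)) * g := by rw [this]
      _ = h * l := by group

/-- A quasisimple subgroup with abelian centralizer containing a unique involution `t`, and
normalized by `C(t)`, is standard. -/
theorem standard_of_unique_inv {G : Type*} [Group G] [Finite G] {L : Subgroup G}
    (hL : IsQuasisimple L) {t : G} (ht : orderOf t = 2) (htC : t ∈ centralizer (L : Set G))
    (hab : ∀ a ∈ centralizer (L : Set G), ∀ b ∈ centralizer (L : Set G), a * b = b * a)
    (huniq : ∀ s ∈ centralizer (L : Set G), orderOf s = 2 → s = t)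
    (hN : centralizer ({t} : Set G) ≤ normalizer (L : Set G)) : IsStandardSubgroup L := by
  have key : ∀ g : G, g⁻¹ * t * g ∈ centralizer (L : Set G) → g ∈ normalizer (L : Set G) := by
    intro g hg
    apply hN
    have h1 : orderOf (g⁻¹ * t * g) = 2 := by
      have := (MulAut.conj g⁻¹).orderOf_eq t
      simpa [ht] using this
    have h2 := huniq _ hg h1
    rw [mem_centralizer_singleton_iff]
    calc g * t = g * (g⁻¹ * t * g) := by rw [h2]
      _ = t * g := by group
  refine ⟨hL, ⟨?_, ?_⟩, ?_, ?_⟩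
  · rw [even_iff_two_dvd, ← ht]
    exact orderOf_dvd_natCard _ htC
  · intro g hg
    rw [← Nat.not_even_iff_odd, even_iff_two_dvd]
    intro h2
    haveI : Fact (Nat.Prime 2) := ⟨Nat.prime_two⟩
    obtain ⟨s, hs⟩ := exists_prime_orderOf_dvd_card' 2 h2
    have hs' : orderOf (s : G) = 2 := by rw [Subgroup.orderOf_coe, hs]
    have h1 := huniq s s.2.1 hs'
    have h3 := (mem_inf.1 s.2).2
    rw [h1, mem_map_equiv] at h3
    exact hg (normalizer_le_normalizer_centralizer L (key g (by simpa using h3)))
  · intro g _ hbot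
    rw [commutator_comm, commutator_eq_bot_iff_le_centralizer] at hbot
    have hq : IsQuasisimple (L.map (MulAut.conj g).toMonoidHom) :=
      (qs_map_iff_of_injective _ (MulAut.conj g).injective).2 hL
    apply qs_sub_not_le_centralizer hq
    intro a ha b hb
    exact hab b (hbot hb) a (hbot ha)
  · apply le_antisymm (normalizer_le_normalizer_centralizer L)
    intro g hg
    apply key
    have := (mem_normalizer_iff.1 (inv_mem hg) t).1 htC
    simpa using this

theorem sl_qs {ι F : Type*} [Field F] [DecidableEq ι] [Fintype ι] [Nontrivial ι]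
    (h : commutator (SpecialLinearGroup ι F) = ⊤) : IsQuasisimple (SpecialLinearGroup ι F) :=
  ⟨Group.isPerfect_def.2 h, CfsgLib.Classical.psl_isSimpleGroup_of_perfect h⟩

section Blocks

variable {F : Type*} [Field F] {ι κ : Type*} [Fintype ι] [DecidableEq ι]
  [Fintype κ] [DecidableEq κ] (e : ι ⊕ Unit ≃ κ)

theorem exists_blocks (M : Matrix κ κ F) :
    ∃ A B C D, M = reindex e e (fromBlocks A B C D) :=
  ⟨_, _, _, _, by rw [fromBlocks_toBlocks ((reindex e e).symm M), Equiv.apply_symm_apply]⟩

theorem rmul (X Y : Matrix (ι ⊕ Unit) (ι ⊕ Unit) F) :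
    reindex e e X * reindex e e Y = reindex e e (X * Y) := by
  simp only [reindex_apply, submatrix_mul_equiv]

theorem blocks_of_commute_neg (h2 : (2 : F) ≠ 0) {M : Matrix κ κ F}
    (h : M * blockHom e (-1) = blockHom e (-1) * M) :
    ∃ A D, M = reindex e e (fromBlocks A 0 0 D) := by
  obtain ⟨A, B, C, D, rfl⟩ := exists_blocks e M
  rw [blockHom_apply, rmul, rmul, fromBlocks_multiply, fromBlocks_multiply] at h
  obtain ⟨-, hB, hC, -⟩ := fromBlocks_inj.1 ((reindex e e).injective h)
  simp only [Matrix.mul_zero, Matrix.zero_mul, Matrix.mul_one, Matrix.one_mul, add_zero, zero_add,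
    Matrix.neg_mul, Matrix.mul_neg] at hB hC
  have hB0 : B = 0 := by
    ext i j
    have : B i j = - B i j := congrFun (congrFun hB i) j
    have h3 : 2 * B i j = 0 := by linear_combination this
    simpa [h2] using h3
  have hC0 : C = 0 := by
    ext i j
    have : - C i j = C i j := congrFun (congrFun hC i) j
    have h3 : 2 * C i j = 0 := by linear_combination -this
    simpa [h2] using h3
  exact ⟨A, D, by rw [hB0, hC0]⟩

theorem blocks_of_commute_SL [Nontrivial ι] {M : Matrix κ κ F}
    (h : ∀ X : SpecialLinearGroup ι F, blockHom e X.1 * M = M * blockHom e X.1) :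
    ∃ a d : F, M = reindex e e (fromBlocks (scalar ι a) 0 0 (scalar Unit d)) := by
  obtain ⟨A, B, C, D, rfl⟩ := exists_blocks e M
  have key : ∀ X : SpecialLinearGroup ι F, X.1 * A = A * X.1 ∧ X.1 * B = B ∧ C = C * X.1 := by
    intro X
    have h1 := h X
    rw [blockHom_apply, rmul, rmul, fromBlocks_multiply, fromBlocks_multiply] at h1
    obtain ⟨hA, hB, hC, -⟩ := fromBlocks_inj.1 ((reindex e e).injective h1)
    simp only [Matrix.mul_zero, Matrix.zero_mul, Matrix.mul_one, Matrix.one_mul, add_zero,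
      zero_add] at hA hB hC
    exact ⟨hA, hB, hC⟩
  obtain ⟨a, ha⟩ : A ∈ Set.range (scalar ι) := by
    refine mem_range_scalar_of_commute_transvectionStruct fun t => ?_
    exact (key (SpecialLinearGroup.transvection t.hij t.c)).1
  have hB0 : B = 0 := by
    ext j u
    obtain ⟨i, hij⟩ := exists_ne j
    have h1 := (key (SpecialLinearGroup.transvection hij 1)).2.1
    rw [SpecialLinearGroup.transvection_coe, Matrix.add_mul, Matrix.one_mul] at h1
    have h2 := congrFun (congrFun h1 i) u
    simpa using h2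
  have hC0 : C = 0 := by
    ext u i
    obtain ⟨j, hij⟩ := exists_ne i
    have h1 := (key (SpecialLinearGroup.transvection hij.symm 1)).2.2
    rw [SpecialLinearGroup.transvection_coe, Matrix.mul_add, Matrix.mul_one] at h1
    have h2 := congrFun (congrFun h1 u) j
    simpa using h2
  have hD : scalar Unit (D () ()) = D := by
    ext u v
    simp
  refine ⟨a, D () (), ?_⟩
  rw [hB0, hC0, ha, hD]

variable {G : Type*} [Group G] (ρ : G →* Matrix κ κ F) (hρ : Function.Injective ρ)
  (φ : SpecialLinearGroup ι F →* G) (hφ : ∀ X, ρ (φ X) = blockHom e X.1)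
  (t : G) (ht : ρ t = blockHom e (-1))

include hρ hφ in
theorem phi_injective : Function.Injective φ := by
  intro X Y h
  have := congrArg ρ h
  rw [hφ, hφ] at this
  exact Subtype.ext (blockHom_injective e this)

include hρ hφ ht in
theorem range_le_cent : φ.range ≤ centralizer ({t} : Set G) := by
  rintro _ ⟨X, rfl⟩
  rw [mem_centralizer_singleton_iff]
  apply hρ
  rw [map_mul, map_mul, hφ, ht, ← map_mul, ← map_mul]
  simp

include hρ ht in
theorem orderOf_t [Nonempty ι] (h2 : (2 : F) ≠ 0) : orderOf t = 2 := by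
  apply orderOf_eq_prime
  · apply hρ
    rw [map_pow, ht, ← map_pow, map_one]
    simp
  · intro h
    rw [h, map_one, ← map_one (blockHom e)] at ht
    have h1 := blockHom_injective e ht
    obtain ⟨i⟩ := ‹Nonempty ι›
    have h3 : (1 : Matrix ι ι F) i i = - (1 : Matrix ι ι F) i i := congrFun (congrFun h1 i) i
    simp only [one_apply_eq] at h3
    exact h2 (by linear_combination h3)

include hρ hφ ht in
theorem conj_mem_range (h2 : (2 : F) ≠ 0) {g : G} (hg : g ∈ centralizer ({t} : Set G))
    {x : G} (hx : x ∈ φ.range) : g * x * g⁻¹ ∈ φ.range := by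
  obtain ⟨X, rfl⟩ := hx
  have hc : ∀ g ∈ centralizer ({t} : Set G), ∃ A D, ρ g = reindex e e (fromBlocks A 0 0 D) := by
    intro g hg
    apply blocks_of_commute_neg e h2
    rw [← ht, ← map_mul, ← map_mul, mem_centralizer_singleton_iff.1 hg]
  obtain ⟨A, D, hA⟩ := hc g hg
  obtain ⟨A', D', hA'⟩ := hc g⁻¹ (inv_mem hg)
  have h1 : ρ g * ρ g⁻¹ = 1 := by rw [← map_mul, mul_inv_cancel, map_one]
  rw [hA, hA', rmul, fromBlocks_multiply, ← map_one (blockHom e), blockHom_apply] at h1
  obtain ⟨h3, -, -, h4⟩ := fromBlocks_inj.1 ((reindex e e).injective h1)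
  simp only [Matrix.mul_zero, Matrix.zero_mul, add_zero, zero_add] at h3 h4
  have hdet : (A * X.1 * A').det = 1 := by
    rw [det_mul, det_mul, X.2, mul_one, ← det_mul, h3, det_one]
  let Y : SpecialLinearGroup ι F := ⟨A * X.1 * A', hdet⟩
  have hY : Y.1 = A * X.1 * A' := rfl
  refine ⟨Y, hρ ?_⟩
  rw [hφ, hY, map_mul ρ, map_mul ρ, hA, hA', hφ, blockHom_apply, blockHom_apply, rmul, rmul,
    fromBlocks_multiply, fromBlocks_multiply]
  simp [h4]

include hρ hφ ht in
theorem cent_le_normalizer (h2 : (2 : F) ≠ 0) :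
    centralizer ({t} : Set G) ≤ normalizer (φ.range : Set G) := by
  intro g hg
  rw [mem_normalizer_iff]
  intro x
  refine ⟨fun hx => conj_mem_range e ρ hρ φ hφ t ht h2 hg hx, fun hx => ?_⟩
  have := conj_mem_range e ρ hρ φ hφ t ht h2 (inv_mem hg) hx
  simpa [mul_assoc] using this

include hφ in
theorem cent_range [Nontrivial ι] {g : G} (hg : g ∈ centralizer (φ.range : Set G)) :
    ∃ a d : F, ρ g = reindex e e (fromBlocks (scalar ι a) 0 0 (scalar Unit d)) := by
  apply blocks_of_commute_SL
  intro X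
  rw [← hφ, ← map_mul, ← map_mul, hg (φ X) ⟨X, rfl⟩]

include hρ hφ in
theorem cent_range_comm [Nontrivial ι] {a b : G} (ha : a ∈ centralizer (φ.range : Set G))
    (hb : b ∈ centralizer (φ.range : Set G)) : a * b = b * a := by
  obtain ⟨x, y, h1⟩ := cent_range e ρ φ hφ ha
  obtain ⟨z, w, h2⟩ := cent_range e ρ φ hφ hb
  apply hρ
  rw [map_mul, map_mul, h1, h2, rmul, rmul, fromBlocks_multiply, fromBlocks_multiply]
  simp only [Matrix.mul_zero, Matrix.zero_mul, add_zero, zero_add, ← map_mul, mul_comm x z,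
    mul_comm y w]

include hρ hφ in
theorem qs_range [Nontrivial ι] (h : commutator (SpecialLinearGroup ι F) = ⊤) :
    IsQuasisimple φ.range :=
  qs_of_mulEquiv (sl_qs h) (MonoidHom.ofInjective (phi_injective e ρ hρ φ hφ))

include hρ hφ ht in
theorem comp_range [Nontrivial ι] (h : commutator (SpecialLinearGroup ι F) = ⊤)
    (h2 : (2 : F) ≠ 0) : IsComponent (φ.range.subgroupOf (centralizer ({t} : Set G))) := by
  have hle := range_le_cent e ρ hρ φ hφ t ht
  haveI : (φ.range.subgroupOf (centralizer ({t} : Set G))).Normal :=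
    (normal_subgroupOf_iff_le_normalizer hle).2 (cent_le_normalizer e ρ hρ φ hφ t ht h2)
  exact comp_of_normal_qs ((qs_subgroupOf_iff hle).2 (qs_range e ρ hρ φ hφ h))

include hρ hφ ht in
theorem layer_cent [Nontrivial ι] (h : commutator (SpecialLinearGroup ι F) = ⊤)
    (h2 : (2 : F) ≠ 0) :
    (layer (centralizer ({t} : Set G))).map (centralizer ({t} : Set G)).subtype = φ.range := by
  have hle := range_le_cent e ρ hρ φ hφ t ht
  have hc := comp_range e ρ hρ φ hφ t ht h h2
  apply le_antisymm
  · rw [map_layer_subtype_le_iff]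
    intro K hK hKc
    by_contra hne
    have hne' : K ≠ φ.range := fun h => hne h.le
    have hb := comp_rel_commutator_eq_bot_of_ne hK hle hKc hc hne'
    rw [commutator_eq_bot_iff_le_centralizer] at hb
    apply qs_sub_not_le_centralizer ((qs_subgroupOf_iff hK).1 (comp_qs hKc))
    intro a ha b hb'
    exact cent_range_comm e ρ hρ φ hφ (hb hb') (hb ha)
  · exact le_map_layer_subtype hle hc

include hρ hφ ht in
theorem hasComponent_quot [Finite G] [Nontrivial ι] (h : commutator (SpecialLinearGroup ι F) = ⊤)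
    (h2 : (2 : F) ≠ 0) :
    HasComponent (centralizer ({t} : Set G) ⧸ oddCore (centralizer ({t} : Set G))) := by
  have hle := range_le_cent e ρ hρ φ hφ t ht
  have hc := comp_range e ρ hρ φ hφ t ht h h2
  refine ⟨_, comp_map_of_surjective hc (QuotientGroup.mk' _) (QuotientGroup.mk'_surjective _) ?_⟩
  rw [Ne, Subgroup.map_eq_bot_iff, QuotientGroup.ker_mk']
  intro hsub
  obtain ⟨i, j, hij⟩ := exists_pair_ne ι
  let s : SpecialLinearGroup ι F := SpecialLinearGroup.diag2n hij (-1) (by simp)
  have hs : orderOf s = 2 := by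
    apply orderOf_eq_prime
    · apply Subtype.ext
      change s.1 ^ 2 = 1
      rw [SpecialLinearGroup.diag2n_coe, diagonal_pow, ← diagonal_one]
      congr 1
      ext k
      simp only [Pi.pow_apply]
      split_ifs <;> simp
    · intro h1
      have h3 : s.1 i i = (1 : Matrix ι ι F) i i := congrFun (congrFun (congrArg Subtype.val h1) i) i
      rw [SpecialLinearGroup.diag2n_coe] at h3
      simp only [diagonal_apply_eq, if_true, one_apply_eq] at h3
      exact h2 (by linear_combination -h3)
  have hmem : (⟨φ s, hle ⟨s, rfl⟩⟩ : centralizer ({t} : Set G)) ∈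
      oddCore (centralizer ({t} : Set G)) := hsub (by exact ⟨s, rfl⟩)
  have hd := orderOf_dvd_natCard _ hmem
  rw [← Subgroup.orderOf_coe] at hd
  change orderOf (φ s) ∣ _ at hd
  rw [orderOf_injective φ (phi_injective e ρ hρ φ hφ), hs] at hd
  have hodd := CfsgLib.Core.odd_card_oddCore (centralizer ({t} : Set G))
  exact (Nat.not_even_iff_odd.2 hodd) (even_iff_two_dvd.2 hd)

end Blocks

theorem two_ne {F : Type*} [Field F] [Fintype F] (hF : Odd (Fintype.card F)) : (2 : F) ≠ 0 := by
  apply Ring.two_ne_zero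
  intro h
  have := FiniteField.even_card_iff_char_two.1 h
  rw [Nat.odd_iff] at hF
  omega

/-- `Fin m ⊕ 1 ≃ Fin (m + 1)`, the new point last. -/
def eLast (m : ℕ) : Fin m ⊕ Unit ≃ Fin (m + 1) :=
  (Equiv.sumCongr (Equiv.refl _) finOneEquiv.symm).trans finSumFinEquiv

theorem blockHom_eLast {F : Type*} [Field F] (m : ℕ) :
    blockHom (eLast m) (-1 : Matrix (Fin m) (Fin m) F) =
      diagonal (fun i : Fin (m + 1) => if (i : ℕ) + 1 = m + 1 then (1 : F) else -1) := by
  have h1 : (-1 : Matrix (Fin m) (Fin m) F) = diagonal (fun _ => -1) := by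
    rw [← diagonal_one, ← diagonal_neg]
  rw [blockHom_apply, h1, ← diagonal_one, fromBlocks_diagonal, reindex_apply,
    submatrix_diagonal_equiv]
  congr 1
  ext k
  obtain ⟨x, rfl⟩ := (eLast m).surjective k
  rw [Function.comp_apply, Equiv.symm_apply_apply]
  rcases x with i | u
  · have : ((eLast m (Sum.inl i) : Fin (m + 1)) : ℕ) = i := rfl
    rw [this, if_neg (by have := i.2; omega)]; rfl
  · have : ((eLast m (Sum.inr u) : Fin (m + 1)) : ℕ) = m := rfl
    rw [this, if_pos rfl]; rfl

end CfsgLib.StdEx
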